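import Mathlib
import Cfsg.Agent.Lib.Metacyclic.Subgroups
import Cfsg.Agent.Lib.Regular.SmallRank
import Cfsg.Agent.Lib.Regular.Huppert
import Cfsg.Agent.Lib.PLemmas.MaximalClass
import Cfsg.Agent.Lib.CoprimeOmega.Basic

/-!
Metacyclic `p`-groups (`p` odd) without cyclic subgroups of index `p`: every element of order `p` is a `p`-th
power, and the elements of order dividing `p²` behave like an abelian group. Also small facts on groups of
maximal class.
-/

namespace Cfsg.Agent.Lib.MetaOmega

open Subgroup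
open scoped commutatorElement
open Cfsg.Agent.Lib.Metacyclic

universe u

section General

variable {G : Type u} [Group G] [Finite G] {p : ℕ} [hp : Fact p.Prime]

/-- A normal subgroup of order `p` of a `p`-group is central. -/
theorem le_center_of_card_prime (hG : IsPGroup p G) (N : Subgroup G) [N.Normal]
    (hN : Nat.card N = p) : N ≤ center G := by
  have hne : N ≠ ⊥ := fun h => by
    rw [h, card_bot] at hN; exact hp.out.ne_one hN.symm
  obtain ⟨z, hzN, hzc, hz⟩ := Regular.exists_central_order_p hG hne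
  have hle : zpowers z ≤ N := zpowers_le.2 hzN
  have := eq_of_le_of_card_ge hle (by rw [Nat.card_zpowers, hz, hN])
  exact this ▸ zpowers_le.2 hzc

/-- Commutators with a normal subgroup of order `p²` are central. -/
theorem commutator_mem_center (hG : IsPGroup p G) (N : Subgroup G) [N.Normal]
    (hN : Nat.card N = p ^ 2) {x : G} (hx : x ∈ N) (g : G) : ⁅x, g⁆ ∈ center G := by
  set π := QuotientGroup.mk' (center G) with hπ
  haveI : (N.map π).Normal := Normal.map inferInstance π (QuotientGroup.mk'_surjective _)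
  have hQ := hG.to_quotient (center G)
  have h1 : N.map π ≤ center (G ⧸ center G) := by
    rcases eq_or_ne (N.map π) ⊥ with h | h
    · rw [h]; exact bot_le
    refine le_center_of_card_prime hQ _ ?_
    have hdvd : Nat.card (N.map π) ∣ p ^ 2 := hN ▸ card_map_dvd N π
    obtain ⟨k, hk, hk'⟩ := (Nat.dvd_prime_pow hp.out).1 hdvd
    interval_cases k
    · exact absurd (card_eq_one.1 (by rw [hk', pow_zero])) h
    · rw [hk', pow_one]
    · exfalso
      have hne : N ≠ ⊥ := fun h0 => h (by rw [h0, Subgroup.map_bot])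
      obtain ⟨z, hzN, hzc, hz⟩ := Regular.exists_central_order_p hG hne
      have hinj : Function.Injective (π.subgroupMap N) := by
        have hbij : Function.Bijective (π.subgroupMap N) :=
          (Nat.bijective_iff_surjective_and_card _).2
            ⟨π.subgroupMap_surjective N, by rw [hN, hk']⟩
        exact hbij.1
      have : (⟨z, hzN⟩ : N) = 1 := hinj (Subtype.ext (by
        simpa [hπ] using (QuotientGroup.eq_one_iff z).2 hzc))
      have hz1 : z = 1 := congrArg Subtype.val this
      rw [hz1, orderOf_one] at hz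
      exact hp.out.ne_one hz.symm
  rw [← QuotientGroup.eq_one_iff, ← QuotientGroup.mk'_apply, map_commutatorElement,
    commutatorElement_eq_one_iff_mul_comm]
  exact (mem_center_iff.1 (h1 (mem_map_of_mem π hx)) _).symm

/-- A group of maximal class has centre of order `p` and a central quotient of maximal class. -/
theorem card_center_of_maxClass (hG : IsPGroup p G) {n : ℕ} (hn : Nat.card G = p ^ n) (hn3 : 3 ≤ n)
    (hcl : Group.nilpotencyClass G = n - 1) :
    Nat.card (center G) = p ∧ Nat.card (G ⧸ center G) = p ^ (n - 1) ∧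
      Group.nilpotencyClass (G ⧸ center G) = n - 2 := by
  have := hG.isNilpotent
  obtain ⟨j, hj0, hjn, hj, hQ⟩ := PLemmas.exists_card_center_eq hG hn (by omega)
  have : Nontrivial G :=
    Finite.one_lt_card_iff_nontrivial.1 (hn ▸ Nat.one_lt_pow (by omega) hp.out.one_lt)
  rw [Group.nilpotencyClass_eq_quotient_center_plus_one] at hcl
  have hj1 : j = 1 := by
    rcases lt_or_ge (n - j) 2 with h | h
    · interval_cases h' : n - j
      · rw [pow_zero] at hQ
        have := (Nat.card_eq_one_iff_unique.1 hQ).1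
        have : Group.nilpotencyClass (G ⧸ center G) = 0 :=
          Group.nilpotencyClass_zero_iff_subsingleton.2 this
        omega
      · rw [pow_one] at hQ
        exact (PLemmas.index_center_ne_prime hQ).elim
    · have := PLemmas.nilpotencyClass_le (hG.to_quotient _) hQ h
      omega
  subst hj1
  exact ⟨by rw [hj, pow_one], hQ, by omega⟩

/-- In a group of maximal class of order at least `p^4` there is only one normal subgroup of order `p²`. -/
theorem eq_of_maxClass (hG : IsPGroup p G) {n : ℕ} (hn : Nat.card G = p ^ n) (hn4 : 4 ≤ n)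
    (hcl : Group.nilpotencyClass G = n - 1) (A B : Subgroup G) [A.Normal] [B.Normal]
    (hA : Nat.card A = p ^ 2) (hB : Nat.card B = p ^ 2) : A = B := by
  obtain ⟨hc, hQ, hQc⟩ := card_center_of_maxClass hG (by exact hn) (by omega) hcl
  have hQp := hG.to_quotient (center G)
  obtain ⟨hc', -, -⟩ := card_center_of_maxClass hQp hQ (by omega) (by omega)
  set π := QuotientGroup.mk' (center G) with hπ
  have key : ∀ (N : Subgroup G) [N.Normal], Nat.card N = p ^ 2 →
      N = (center (G ⧸ center G)).comap π := by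
    intro N _ hN
    have hne : N ≠ ⊥ := fun h => by
      rw [h, card_bot] at hN
      exact (Nat.one_lt_pow two_ne_zero hp.out.one_lt).ne hN
    obtain ⟨z, hzN, hzc, hz⟩ := Regular.exists_central_order_p hG hne
    have hZN : center G ≤ N := by
      have := eq_of_le_of_card_ge (zpowers_le.2 hzc) (by rw [Nat.card_zpowers, hz, hc])
      exact this ▸ zpowers_le.2 hzN
    haveI : (N.map π).Normal := Normal.map inferInstance π (QuotientGroup.mk'_surjective _)
    have hcomap : (N.map π).comap π = N := by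
      rw [comap_map_eq, hπ, QuotientGroup.ker_mk', sup_eq_left.2 hZN]
    have hcard : Nat.card (N.map π) = p := by
      have h1 := N.card_mul_index
      have h2 := (N.map π).card_mul_index
      have h3 : (N.map π).index = N.index := by
        rw [← index_comap_of_surjective (N.map π) (QuotientGroup.mk'_surjective _), hcomap]
      rw [h3] at h2
      have h4 := (center G).card_mul_index
      rw [hc, Subgroup.index, hQ] at h4
      have h5 : Nat.card (N.map π) * N.index * p = Nat.card N * N.index := by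
        rw [h2, h1, ← h4, hQ, mul_comm]
      rw [hN] at h5
      have hpos : 0 < N.index := Nat.pos_of_ne_zero index_ne_zero_of_finite
      have h6 : Nat.card (N.map π) * p * N.index = p ^ 2 * N.index := by rw [← h5]; ring
      have h7 := Nat.eq_of_mul_eq_mul_right hpos h6
      rw [pow_two] at h7
      exact Nat.eq_of_mul_eq_mul_right hp.out.pos h7
    have heq := eq_of_le_of_card_ge (le_center_of_card_prime hQp _ hcard) (by rw [hc', hcard])
    rw [← heq, hcomap]
  rw [key A hA, key B hB]

end General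

section Metacyclic

variable {L : Type u} [Group L] [Finite L] {p : ℕ} [hp : Fact p.Prime]

/-- Without a cyclic subgroup of index `p` both parameters are at least two. -/
theorem not_isCyclic (hL : IsPGroup p L) [Nontrivial L]
    (hnc : ∀ C : Subgroup L, IsCyclic C → C.index ≠ p) : ¬ IsCyclic L := by
  intro h
  obtain ⟨k, hk⟩ := IsPGroup.iff_card.1 hL
  obtain ⟨g, hg⟩ := h.exists_generator
  have hord : orderOf g = p ^ k := by rw [orderOf_eq_card_of_forall_mem_zpowers hg, hk]
  have hk0 : k ≠ 0 := fun h0 => by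
    have := Finite.one_lt_card (α := L); rw [hk, h0, pow_zero] at this; exact lt_irrefl _ this
  apply hnc (zpowers (g ^ p)) inferInstance
  have h1 := (zpowers (g ^ p)).card_mul_index
  rw [Nat.card_zpowers, orderOf_pow' _ hp.out.ne_zero, hord,
    Nat.gcd_eq_right (dvd_pow_self p hk0), hk] at h1
  have hdiv : p ^ k / p * p = p ^ k := Nat.div_mul_cancel (dvd_pow_self p hk0)
  have hpos : 0 < p ^ k / p := by
    by_contra h0
    push Not at h0
    rw [Nat.le_zero.1 h0, zero_mul] at hdiv
    exact (pow_ne_zero k hp.out.ne_zero) hdiv.symm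
  exact Nat.eq_of_mul_eq_mul_left hpos (h1.trans hdiv.symm)

variable (hp2 : p ≠ 2) (hL : IsPGroup p L) (hmc : Cfsg.IsMetacyclic L)
  (hnc : ∀ C : Subgroup L, IsCyclic C → C.index ≠ p) (hncyc : ¬ IsCyclic L)

include hnc hncyc in
theorem two_le_params (C : Coord L p) : 2 ≤ C.m ∧ 2 ≤ C.l := by
  have hbad : ∀ g : L, p ^ (C.m + C.l) ≤ p * orderOf g → False := by
    intro g hg
    have h1 := (zpowers g).card_mul_index
    rw [Nat.card_zpowers, C.card_group] at h1
    have h2 : (zpowers g).index ≤ p :=
      Nat.le_of_mul_le_mul_left (by rw [h1, mul_comm (orderOf g) p]; exact hg) (orderOf_pos g)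
    obtain ⟨k, -, hk⟩ := (Nat.dvd_prime_pow hp.out).1 (⟨orderOf g, by rw [mul_comm, h1]⟩ :
      (zpowers g).index ∣ p ^ (C.m + C.l))
    rcases k with _ | _ | k
    · rw [pow_zero, index_eq_one] at hk
      exact hncyc (isCyclic_iff_exists_zpowers_eq_top.2 ⟨g, hk⟩)
    · exact hnc (zpowers g) inferInstance (by rw [hk, zero_add, pow_one])
    · rw [hk] at h2
      have : p ^ (k + 1 + 1) ≤ p ^ 1 := by rwa [pow_one]
      have := (Nat.pow_le_pow_iff_right hp.out.one_lt).1 this
      omega
  constructor
  · by_contra h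
    apply hbad C.x
    have hx : p ^ C.l ≤ orderOf C.x := Nat.le_of_dvd (orderOf_pos _)
      (C.dvd_of_mem _ (by rw [pow_orderOf_eq_one]; exact one_mem _))
    calc p ^ (C.m + C.l) ≤ p ^ (1 + C.l) := Nat.pow_le_pow_right hp.out.pos (by omega)
      _ = p * p ^ C.l := by rw [pow_add, pow_one]
      _ ≤ _ := Nat.mul_le_mul_left p hx
  · by_contra h
    apply hbad C.a
    rw [C.orderOf_a]
    calc p ^ (C.m + C.l) ≤ p ^ (1 + C.m) := Nat.pow_le_pow_right hp.out.pos (by omega)
      _ = p * p ^ C.m := by rw [pow_add, pow_one]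

include hp2 hL hmc hnc hncyc in
/-- Every element of order `p` is a `p`-th power. -/
theorem exists_pow_eq (e : L) (he : e ^ p = 1) : ∃ y : L, y ^ p = e := by
  obtain ⟨C⟩ := exists_coord hL hmc
  obtain ⟨hm2, hl2⟩ := two_le_params hnc hncyc C
  obtain ⟨j, i, rfl⟩ := C.exists_rep e
  rw [C.rep_pow] at he
  have hxmem : C.x ^ (i * p) ∈ zpowers C.a := by
    rw [eq_inv_of_mul_eq_one_right he]
    exact inv_mem (pow_mem (mem_zpowers _) _)
  have hdvd := C.dvd_of_mem _ hxmem
  have hpi : p ∣ i := by
    have h1 : p * p ∣ i * p := by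
      refine dvd_trans ?_ hdvd
      rw [← pow_two]; exact pow_dvd_pow p hl2
    exact Nat.dvd_of_mul_dvd_mul_right hp.out.pos h1
  obtain ⟨i', rfl⟩ := hpi
  have hR : ((C.r ^ i' : ℕ) : ZMod p) = 1 := by push_cast; rw [C.r_cast, one_pow]
  obtain ⟨g', hg'⟩ := (prime_dvd_gsum hR : p ∣ gsum (C.r ^ i') p)
  have hg'n : ¬ p ∣ g' := by
    intro h
    have h1 : p ^ 2 ∣ gsum (C.r ^ i') p := by rw [hg', pow_two]; exact Nat.mul_dvd_mul_left p h
    have h2 := (pow_dvd_gsum_iff hp2 hR 2 p).1 h1
    have := Nat.le_of_dvd hp.out.pos h2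
    nlinarith [hp.out.two_le]
  by_cases hpj : p ∣ j
  · obtain ⟨j', rfl⟩ := hpj
    obtain ⟨w, hw⟩ := exists_mul_modEq_one (p := p) (M := C.m) hg'n
    refine ⟨C.a ^ (j' * w) * C.x ^ i', ?_⟩
    rw [C.rep_pow, hg', mul_comm p i']
    congr 1
    rw [pow_eq_pow_iff_modEq, C.orderOf_a]
    calc j' * w * (p * g') = p * j' * (g' * w) := by ring
      _ ≡ p * j' * 1 [MOD p ^ C.m] := hw.mul_left _
      _ = p * j' := mul_one _
  · exfalso
    have hR' : ((C.r ^ (p * i') : ℕ) : ZMod p) = 1 := by push_cast; rw [C.r_cast, one_pow]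
    obtain ⟨h', hh'⟩ := (prime_dvd_gsum hR' : p ∣ gsum (C.r ^ (p * i')) p)
    have hh'n : ¬ p ∣ h' := by
      intro h
      have h1 : p ^ 2 ∣ gsum (C.r ^ (p * i')) p := by
        rw [hh', pow_two]; exact Nat.mul_dvd_mul_left p h
      have := Nat.le_of_dvd hp.out.pos ((pow_dvd_gsum_iff hp2 hR' 2 p).1 h1)
      nlinarith [hp.out.two_le]
    have hjh : ¬ p ∣ j * h' := fun h => (hp.out.dvd_mul.1 h).elim hpj hh'n
    have hord : orderOf (C.x ^ (p * i' * p)) = p ^ (C.m - 1) := by
      rw [eq_inv_of_mul_eq_one_right he, orderOf_inv, hh', orderOf_pow, C.orderOf_a]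
      obtain ⟨mm, hmm⟩ : ∃ mm, C.m = mm + 1 := ⟨C.m - 1, by omega⟩
      rw [hmm, Nat.add_sub_cancel]
      have : Nat.gcd (p ^ (mm + 1)) (j * (p * h')) = p := by
        rw [show j * (p * h') = p * (j * h') by ring, pow_succ', Nat.gcd_mul_left]
        rw [((hp.out.coprime_iff_not_dvd.2 hjh).pow_left mm).gcd_eq_one, mul_one]
      rw [this, pow_succ, Nat.mul_div_cancel _ hp.out.pos]
    obtain ⟨k, hk⟩ := hdvd
    have h1 : p ^ (C.m - 1) ∣ orderOf (C.x ^ p ^ C.l) := by
      rw [← hord, hk, pow_mul]
      exact orderOf_pow_dvd k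
    have hpl : p ^ C.l ∣ orderOf C.x :=
      C.dvd_of_mem _ (by rw [pow_orderOf_eq_one]; exact one_mem _)
    rw [orderOf_pow' _ (pow_ne_zero _ hp.out.ne_zero), Nat.gcd_eq_right hpl] at h1
    have h2 : p ^ (C.m - 1) * p ^ C.l ∣ orderOf C.x := by
      have := Nat.mul_dvd_mul_right h1 (p ^ C.l)
      rwa [Nat.div_mul_cancel hpl] at this
    rw [← pow_add] at h2
    have hcard := C.card_group
    have h3 := (zpowers C.x).card_mul_index
    rw [Nat.card_zpowers, hcard] at h3
    have h4 : (zpowers C.x).index ∣ p := by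
      obtain ⟨q, hq⟩ := h2
      have e : p ^ (C.m + C.l) = p ^ (C.m - 1 + C.l) * p := by
        rw [← pow_succ]; congr 1; omega
      rw [hq, e, mul_assoc] at h3
      exact ⟨q, by rw [mul_comm]; exact (Nat.eq_of_mul_eq_mul_left (pow_pos hp.out.pos _) h3).symm⟩
    rcases (Nat.dvd_prime hp.out).1 h4 with h5 | h5
    · rw [index_eq_one] at h5
      exact hncyc (isCyclic_iff_exists_zpowers_eq_top.2 ⟨C.x, h5⟩)
    · exact hnc (zpowers C.x) inferInstance h5

include hp2 hL hmc hncyc in
theorem card_elements_order_dvd :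
    ∃ E : Subgroup L, (∀ x, x ∈ E ↔ x ^ p = 1) ∧ Nat.card E = p ^ 2 ∧
      ∀ x ∈ E, ∀ y ∈ E, Commute x y := by
  obtain ⟨hE, hc⟩ := Regular.omegaOne_of_isMetacyclic hp2 hL hmc hncyc
  exact ⟨_, fun x => ⟨fun hx => hE.2 x hx, Regular.mem_omegaOne_top⟩, hc,
    fun x hx y hy => ElemAbelian.comm hE hx hy⟩

include hL hmc in
/-- An element of order dividing `p` of the derived subgroup is central. -/
theorem mem_center_of_mem_commutator {d : L} (hd : d ∈ commutator L) (hdp : d ^ p = 1) :
    d ∈ center L := by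
  rcases eq_or_ne d 1 with rfl | hd1
  · exact one_mem _
  obtain ⟨C⟩ := exists_coord hL hmc
  have hcyc : IsCyclic (commutator L) := by rw [C.commutator_eq]; infer_instance
  haveI : (zpowers d).Normal := by
    constructor
    intro v hv g
    have hvD : v ∈ commutator L := zpowers_le.2 hd hv
    have hvp : v ^ p = 1 := by
      obtain ⟨i, rfl⟩ := mem_zpowers_iff.1 hv
      rw [← zpow_natCast, ← zpow_mul, mul_comm, zpow_mul, zpow_natCast, hdp, one_zpow]
    have hmem : g * v * g⁻¹ ∈ commutator L := Normal.conj_mem inferInstance v hvD g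
    have h1 := Regular.mem_zpowers_of_isCyclic (C := commutator L) (p := p) (x := ⟨d, hd⟩)
      (y := ⟨g * v * g⁻¹, hmem⟩) (Subtype.ext (by simpa using hdp))
      (fun h => hd1 (congrArg Subtype.val h))
      (Subtype.ext (by simp [conj_pow, hvp]))
    obtain ⟨i, hi⟩ := mem_zpowers_iff.1 h1
    exact mem_zpowers_iff.2 ⟨i, by simpa using congrArg Subtype.val hi⟩
  exact le_center_of_card_prime hL (zpowers d)
    (by rw [Nat.card_zpowers, orderOf_eq_prime hdp hd1]) (mem_zpowers d)

include hp2 hL hmc hncyc in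
/-- Elements with `p`-th power of order dividing `p` have commutators of order dividing `p`. -/
theorem commutator_pow_eq_one {y z : L} (hy : (y ^ p) ^ p = 1) (hz : (z ^ p) ^ p = 1) :
    ⁅y, z⁆ ^ p = 1 := by
  obtain ⟨E, hEm, -, -⟩ := card_elements_order_dvd hp2 hL hmc hncyc
  haveI : E.Normal := ⟨fun v hv g => (hEm _).2 (by rw [conj_pow, (hEm v).1 hv, mul_one, mul_inv_cancel])⟩
  have hQ : IsPGroup p (L ⧸ E) := hL.to_quotient E
  have hQm : Cfsg.IsMetacyclic (L ⧸ E) := by
    obtain ⟨N, hN, hNc, hQc⟩ := hmc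
    refine ⟨N.map (QuotientGroup.mk' E), Normal.map hN _ (QuotientGroup.mk'_surjective _), ?_, ?_⟩
    · haveI := hNc
      exact isCyclic_of_surjective _ ((QuotientGroup.mk' E).subgroupMap_surjective N)
    · haveI := hQc
      haveI : (N.map (QuotientGroup.mk' E)).Normal :=
        Normal.map hN _ (QuotientGroup.mk'_surjective _)
      refine isCyclic_of_surjective
        (QuotientGroup.lift N ((QuotientGroup.mk' (N.map (QuotientGroup.mk' E))).comp
          (QuotientGroup.mk' E)) fun v hv => ?_) ?_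
      · rw [MonoidHom.mem_ker, MonoidHom.comp_apply, QuotientGroup.mk'_apply,
          QuotientGroup.eq_one_iff]
        exact mem_map_of_mem _ hv
      · intro q
        obtain ⟨q, rfl⟩ := QuotientGroup.mk'_surjective _ q
        obtain ⟨v, rfl⟩ := QuotientGroup.mk'_surjective _ q
        exact ⟨v, rfl⟩
  have hyQ : (QuotientGroup.mk y : L ⧸ E) ^ p = 1 := by
    rw [← QuotientGroup.mk_pow, QuotientGroup.eq_one_iff, hEm]; exact hy
  have hzQ : (QuotientGroup.mk z : L ⧸ E) ^ p = 1 := by
    rw [← QuotientGroup.mk_pow, QuotientGroup.eq_one_iff, hEm]; exact hz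
  have hcomm : Commute (QuotientGroup.mk y : L ⧸ E) (QuotientGroup.mk z) := by
    by_cases hc : IsCyclic (L ⧸ E)
    · exact mul_comm' _ _
    · obtain ⟨E', hE'm, -, hE'c⟩ := card_elements_order_dvd hp2 hQ hQm hc
      exact hE'c _ ((hE'm _).2 hyQ) _ ((hE'm _).2 hzQ)
  apply (hEm _).1
  rw [← QuotientGroup.eq_one_iff, ← QuotientGroup.mk'_apply, map_commutatorElement,
    commutatorElement_eq_one_iff_mul_comm]
  exact hcomm

include hp2 hL hmc hncyc in
/-- On elements of order dividing `p²` the `p`-th power is multiplicative. -/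
theorem mul_pow_eq {y z : L} (hy : (y ^ p) ^ p = 1) (hz : (z ^ p) ^ p = 1) :
    (y * z) ^ p = y ^ p * z ^ p ∧ ((y * z) ^ p) ^ p = 1 ∧ Commute (y ^ p) z := by
  set c := ⁅z⁻¹, y⁻¹⁆ with hc
  have hy' : ((y⁻¹) ^ p) ^ p = 1 := by rw [inv_pow, inv_pow, hy, inv_one]
  have hz' : ((z⁻¹) ^ p) ^ p = 1 := by rw [inv_pow, inv_pow, hz, inv_one]
  have hcp : c ^ p = 1 := commutator_pow_eq_one hp2 hL hmc hncyc hz' hy'
  have hcc : c ∈ center L :=
    mem_center_of_mem_commutator hL hmc (commutator_mem_commutator (mem_top _) (mem_top _)) hcp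
  have hrel : z * y = y * z * c := by rw [hc, commutatorElement_def]; group
  have hpow := CoprimeOmega.mul_pow_of_commute hrel (mem_center_iff.1 hcc y).symm
    (mem_center_iff.1 hcc z).symm p
  obtain ⟨k, hk⟩ := PGroupNormalSq.prime_dvd_choose_two hp.out hp2
  rw [hk, pow_mul, hcp, one_pow, mul_one] at hpow
  have hcm : Commute (y ^ p) z := by
    obtain ⟨E, hEm, -, -⟩ := card_elements_order_dvd hp2 hL hmc hncyc
    have hzy : ∀ n : ℕ, z * y ^ n = y ^ n * z * c ^ n := by
      intro n
      induction n with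
      | zero => simp
      | succ n ih =>
        calc z * y ^ (n + 1) = z * y ^ n * y := by rw [pow_succ, mul_assoc]
          _ = y ^ n * z * (c ^ n * y) := by rw [ih, mul_assoc]
          _ = y ^ n * (z * y) * c ^ n := by
              rw [(Commute.pow_left (mem_center_iff.1 hcc y).symm n).eq]; simp only [mul_assoc]
          _ = _ := by rw [hrel, pow_succ c, pow_succ y,
              (Commute.self_pow c n).symm.eq]; simp only [mul_assoc]
    have := hzy p
    rw [hcp, mul_one] at this
    exact this.symm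
  refine ⟨hpow, ?_, hcm⟩
  rw [hpow, ((hcm.pow_right p)).mul_pow, hy, hz, one_mul]

include hp2 hL hmc hnc hncyc in
theorem commute_of_pow {e z : L} (he : e ^ p = 1) (hz : (z ^ p) ^ p = 1) : Commute e z := by
  obtain ⟨y, rfl⟩ := exists_pow_eq hp2 hL hmc hnc hncyc e he
  exact (mul_pow_eq hp2 hL hmc hncyc he hz).2.2

end Metacyclic

end Cfsg.Agent.Lib.MetaOmega
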